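import Mathlib
import Cfsg.Agent.Base
import Cfsg.Agent.Lib.SylInt.Inner

/-! # The Sylow 2-subgroups of the Bender groups have class at most 2 -/

set_option autoImplicit false

namespace H32.AI

open Subgroup Cfsg H69 H69.SI H72
open scoped commutatorElement

variable {G : Type*} [Group G] [Finite G]

theorem bender_class_two (h : IsBenderGroup G) (S : Sylow 2 G) :
    ⁅(S : Subgroup G), (S : Subgroup G)⁆ ≤ 𝐂((S : Subgroup G)) := by
  suffices ∃ T : Subgroup G, IsSylowIn 2 T ⊤ ∧ ⁅T, T⁆ ≤ 𝐂(T) by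
    obtain ⟨T, h1, h2⟩ := this
    obtain ⟨g, -, e⟩ := h1.conj (isSylowIn_top S)
    rw [← e, ← cj_commutator, ← cj_centralizer]
    exact cj_mono g h2
  rcases h with ⟨F, _, _, h1, h2, e⟩ | ⟨F, _, _, n, h1, h2, ⟨e⟩⟩ | h
  · obtain ⟨n, h3, h4⟩ := exists_card_eq_two_pow F h2
    have h5 : ∀ x ∈ S, x⁻¹ = x := fun x hx => inv_eq_of_mul_eq_one_right
      (L2e.sq ⟨F, _, _, n, h3, h4, e⟩ (isPGroup_iff_mem.1 S.isPGroup' x hx))
    refine ⟨S, isSylowIn_top S, commutator_le.2 fun a ha b hb => ?_⟩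
    rw [commutatorElement_eq_one_iff_mul_comm.2 (by
      rw [← h5 _ (mul_mem ha hb), mul_inv_rev, h5 a ha, h5 b hb])]
    exact one_mem _
  · have : H11.U.IsSq F (2 ^ n) := ⟨h2⟩
    have : CharP F 2 := charP_two (n := n * 2) (by omega) (by rw [h2, pow_mul])
    refine ⟨_, isSylowIn_equiv e (isSylowIn_UQ (dvd_pow_self 2 (by omega))), commutator_le.2 ?_⟩
    rintro _ ⟨_, ⟨a, rfl⟩, rfl⟩ _ ⟨_, ⟨b, rfl⟩, rfl⟩ _ ⟨_, ⟨c, rfl⟩, rfl⟩
    simp only [← map_commutatorElement, ← map_mul]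
    rw [UQ.comm_of_X (a := ⁅a, b⁆) (by
      simp only [commutatorElement_def, UQ.mul_X, UQ.inv_X]; grind)]
  · obtain ⟨F, _, _, m, hF, ⟨M⟩⟩ := exists_model_of_isoSuzuki h
    have : CharP F 2 := H14.Sz.charP_two_of_card hF.2
    refine ⟨M.U, M.coe_sylow ▸ isSylowIn_top M.sylow, commutator_le.2 ?_⟩
    rintro _ ⟨a, b, rfl⟩ _ ⟨c, d, rfl⟩ _ ⟨x, y, rfl⟩
    have : a + c + a + c = 0 := by grind
    simp only [commutatorElement_def, M.u_inv, M.u_mul, this, M.u_inj, map_zero]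
    grind

end H32.AI
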